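import Mathlib
import Cfsg.Agent.S3992
import Cfsg.Agent.Lib.Components

/-!
Groups all of whose element orders are prime powers: the index of the simple socle via Sylow normalisers of prime order,
and the radical being a two-group.
-/

set_option autoImplicit false
set_option linter.unusedSectionVars false
set_option linter.style.haveILetI false

namespace CfsgLib.EppoAlmost

open Subgroup

universe u

/-- All element orders are prime powers. -/
abbrev Epo (G : Type u) [Group G] : Prop := ∀ g : G, g ≠ 1 → IsPrimePow (orderOf g)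

variable {G : Type u} [Group G] [Finite G]

theorem centralizer_pgroup (hpp : Epo G) {p : ℕ} [hp : Fact p.Prime] {a : G} (ha : p ∣ orderOf a) :
    IsPGroup p (centralizer ({a} : Set G)) := by
  refine IsPGroup.of_card (Nat.eq_prime_pow_of_unique_prime_dvd Nat.card_pos.ne' fun {r} hr hd => ?_)
  by_contra hne
  haveI := Fact.mk hr
  obtain ⟨c, hc⟩ := exists_prime_orderOf_dvd_card' (G := centralizer ({a} : Set G)) r hd
  exact Cfsg.Agent.S3992.Aux.no_commute hpp hr hp.out hne (a := (c : G)) (b := a)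
    (by rw [Subgroup.orderOf_coe, hc]) ha (mem_centralizer_singleton_iff.mp c.2)

/-- The normaliser of a Sylow subgroup of prime order of a normal subgroup. -/
theorem normaliser (hpp : Epo G) (M : Subgroup G) [M.Normal] {p : ℕ} [hp : Fact p.Prime] (hpd : p ∣ Nat.card M)
    (hp2 : ¬ p ^ 2 ∣ Nat.card M) :
    ∃ a b k : ℕ, 1 ≤ a ∧ b ∣ p - 1 ∧ (b = 1 ∨ IsPrimePow b) ∧ M.index * (p * k) = p ^ a * b ∧
      p * k ∣ Nat.card M ∧ (Nat.card M / (p * k)) % p = 1 ∧
      ∃ K : Subgroup G, K ≤ M ∧ Nat.card K = p * k := by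
  classical
  obtain ⟨P⟩ : Nonempty (Sylow p M) := inferInstance
  have hPc : Nat.card P = p := by
    rw [P.card_eq_multiplicity]
    have h1 : 1 ≤ (Nat.card M).factorization p := (hp.out.dvd_iff_one_le_factorization Nat.card_pos.ne').mp hpd
    have h2 : (Nat.card M).factorization p < 2 := by
      by_contra h
      exact hp2 ((hp.out.pow_dvd_iff_le_factorization Nat.card_pos.ne').mpr (not_lt.mp h))
    rw [show (Nat.card M).factorization p = 1 by omega, pow_one]
  set P' := (P : Subgroup M).map M.subtype with hP'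
  have hP'c : Nat.card P' = p := by
    rw [hP', Nat.card_congr ((P : Subgroup M).equivMapOfInjective M.subtype M.subtype_injective).toEquiv.symm]
    exact hPc
  set N := normalizer (P' : Set G) with hN
  have htop : N ⊔ M = ⊤ := Sylow.normalizer_sup_eq_top P
  have hidx : M.index = M.relIndex N := by
    rw [← relIndex_sup_right, htop, relIndex_top_right]
  have hNM : N.subgroupOf M = normalizer ((P : Subgroup M) : Set M) := by
    have h1 : P'.subgroupOf M = (P : Subgroup M) := comap_map_eq_self_of_injective M.subtype_injective _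
    rw [hN, subgroupOf_normalizer_eq (show P' ≤ M from map_subtype_le _), h1]
  obtain ⟨k, hk⟩ : p ∣ Nat.card (normalizer ((P : Subgroup M) : Set M)) := by
    have := card_dvd_of_le (le_normalizer : (P : Subgroup M) ≤ normalizer ((P : Subgroup M) : Set M))
    rwa [hPc] at this
  have hInf : Nat.card (M ⊓ N : Subgroup G) = p * k := by
    rw [← hk, ← hNM, inf_comm, ← Nat.card_congr (subgroupOfEquivOfLe (inf_le_right : N ⊓ M ≤ M)).toEquiv,
      inf_subgroupOf_right]
  have hNcard : M.index * (p * k) = Nat.card N := by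
    rw [hidx, ← hInf, ← inf_relIndex_right M N, mul_comm, ← relIndex_bot_left (M ⊓ N),
      relIndex_mul_relIndex ⊥ (M ⊓ N) N bot_le inf_le_right, relIndex_bot_left]
  obtain ⟨a₀, ha₀, ha₁⟩ : ∃ a₀ ∈ P', a₀ ≠ 1 := by
    by_contra h
    push Not at h
    have := (eq_bot_iff.mpr fun x hx => mem_bot.mpr (h x hx) : P' = ⊥)
    rw [this, card_bot] at hP'c
    exact hp.out.ne_one hP'c.symm
  have hao : orderOf a₀ = p := by
    rcases (Nat.dvd_prime hp.out).mp (hP'c ▸ P'.orderOf_dvd_natCard ha₀) with h | h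
    · exact absurd (orderOf_eq_one_iff.mp h) ha₁
    · exact h
  have hle : centralizer (P' : Set G) ≤ centralizer ({a₀} : Set G) :=
    centralizer_le (by simpa using ha₀)
  obtain ⟨a, ha⟩ := IsPGroup.iff_card.mp ((centralizer_pgroup hpp hao.symm.dvd).to_le hle)
  have ha1 : 1 ≤ a := by
    have hzc : zpowers a₀ ≤ centralizer (P' : Set G) := by
      rw [zpowers_le]
      haveI : IsCyclic P' := isCyclic_of_prime_card hP'c
      intro y hy
      exact congrArg Subtype.val (IsCyclic.commGroup.mul_comm (⟨y, hy⟩ : P') ⟨a₀, ha₀⟩)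
    have := card_dvd_of_le hzc
    rw [Nat.card_zpowers, hao, ha] at this
    rcases Nat.eq_zero_or_pos a with rfl | h
    · rw [pow_zero, Nat.dvd_one] at this; exact absurd this hp.out.ne_one
    · exact h
  haveI hPcyc : IsCyclic P' := isCyclic_of_prime_card hP'c
  set φ := normalizerMonoidHom P' with hφ
  have hker : Nat.card φ.ker = p ^ a := by
    rw [hφ, normalizerMonoidHom_ker, Nat.card_congr (subgroupOfEquivOfLe (centralizer_le_normalizer _)).toEquiv, ha]
  haveI : IsCyclic (MulAut P') := by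
    haveI : Fact (Nat.card P').Prime := ⟨hP'c ▸ hp.out⟩
    exact isCyclic_of_surjective (IsCyclic.mulAutMulEquiv P').symm (MulEquiv.surjective _)
  obtain ⟨g, hg⟩ := IsCyclic.exists_generator (α := φ.range)
  have hb : Nat.card φ.range = orderOf g := (orderOf_eq_card_of_forall_mem_zpowers hg).symm
  refine ⟨a, Nat.card φ.range, k, ha1, ?_, ?_, ?_, ?_, ?_, M ⊓ N, inf_le_left, hInf⟩
  · have := card_subgroup_dvd_card φ.range
    rwa [IsCyclic.card_mulAut, hP'c, Nat.totient_prime hp.out] at this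
  · rw [hb]
    obtain ⟨y, hy⟩ := g.2
    by_cases hy1 : y = 1
    · left
      rw [orderOf_eq_one_iff]
      exact Subtype.ext (by rw [← hy, hy1, map_one, OneMemClass.coe_one])
    · have h1 : orderOf g ∣ orderOf y := by
        rw [← Subgroup.orderOf_coe g, ← hy]
        exact orderOf_map_dvd φ y
      obtain ⟨r, j, hr, -, hrj⟩ := (isPrimePow_nat_iff _).mp
        (hpp (y : G) fun e => hy1 (Subtype.ext e))
      rw [← Subgroup.orderOf_coe y, ← hrj, Nat.dvd_prime_pow hr] at h1
      obtain ⟨i, -, hi⟩ := h1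
      rcases Nat.eq_zero_or_pos i with rfl | hi0
      · left; rw [hi, pow_zero]
      · right; rw [hi]; exact (isPrimePow_nat_iff _).mpr ⟨r, i, hr, hi0, rfl⟩
  · rw [hNcard, ← hker, mul_comm, ← Subgroup.index_ker φ, index_mul_card]
  · rw [← hk]
    exact card_subgroup_dvd_card _
  · have h1 := card_sylow_modEq_one p M
    rw [P.card_eq_index_normalizer] at h1
    rw [← hk, Nat.div_eq_of_eq_mul_left Nat.card_pos (index_mul_card _).symm]
    exact Eq.trans h1 (Nat.one_mod_eq_one.mpr hp.out.ne_one)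

/-- The normaliser data with the small index dividing the large one. -/
theorem normaliser_dvd (hpp : Epo G) (M : Subgroup G) [M.Normal] {p : ℕ} [hp : Fact p.Prime] (hpd : p ∣ Nat.card M)
    (hp2 : ¬ p ^ 2 ∣ Nat.card M) :
    ∃ a b k : ℕ, k ∣ b ∧ b ∣ p - 1 ∧ (b = 1 ∨ IsPrimePow b) ∧ M.index * (p * k) = p ^ a * b ∧
      (Nat.card M / (p * k)) % p = 1 ∧ M.index ∣ p ^ a * (p - 1) ∧ (k = b → M.index ∣ p ^ a) ∧
      ∃ K : Subgroup G, K ≤ M ∧ Nat.card K = p * k := by
  obtain ⟨a, b, k, ha, hb, hbp, heq, hdvd, hmod, K, hK⟩ := normaliser hpp M hpd hp2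
  have hk0 : 0 < k := by
    by_contra h
    rw [show k = 0 by omega, mul_zero] at hdvd
    exact Nat.card_pos.ne' (Nat.eq_zero_of_zero_dvd hdvd)
  have hcop : Nat.Coprime k (p ^ a) := by
    refine Nat.Coprime.pow_right a ((hp.out.coprime_iff_not_dvd.mpr fun h => hp2 ?_).symm)
    rw [pow_two]
    exact (Nat.mul_dvd_mul_left p h).trans hdvd
  refine ⟨a, b, k, hcop.dvd_of_dvd_mul_left (heq ▸ dvd_mul_of_dvd_right (dvd_mul_left k p) _), hb, hbp, heq, hmod,
    (heq ▸ dvd_mul_right M.index (p * k)).trans (Nat.mul_dvd_mul_left _ hb), fun hkb => ?_, K, hK⟩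
  refine ⟨p, Nat.eq_of_mul_eq_mul_right hk0 ?_⟩
  rw [← hkb] at heq
  rw [← heq, mul_assoc]

/-- A normal subgroup of odd prime power order is trivial. -/
theorem odd_radical_bot (hpp : Epo G) (R : Subgroup G) [R.Normal] {s : ℕ} [hs : Fact s.Prime] (hs2 : s ≠ 2)
    (hRp : IsPGroup s R) (hmax : ∀ N : Subgroup G, N.Normal → IsPGroup s N → N ≤ R)
    (h2 : 2 ∣ Nat.card (G ⧸ R)) (hZ : center (G ⧸ R) = ⊥) : R = ⊥ := by
  by_contra hR
  haveI : Nontrivial R := (nontrivial_iff_ne_bot R).mpr hR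
  set V := (center R).map R.subtype with hV
  haveI hVn : V.Normal := inferInstance
  obtain ⟨v₀, hv₀, hv₁⟩ : ∃ v ∈ V, v ≠ 1 := by
    haveI := hRp.center_nontrivial
    obtain ⟨z, hz⟩ := exists_ne (1 : center R)
    exact ⟨_, mem_map_of_mem R.subtype z.2, fun e => hz (Subtype.ext (Subtype.ext e))⟩
  have hVcomm : ∀ a ∈ V, ∀ b ∈ V, a * b = b * a := by
    rintro _ ⟨a, ha, rfl⟩ _ ⟨b, -, rfl⟩
    exact (congrArg R.subtype (mem_center_iff.mp ha b)).symm
  have hsv : ∀ v ∈ V, v ≠ 1 → s ∣ orderOf v := by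
    intro v hv hv1
    obtain ⟨j, hj⟩ := IsPGroup.iff_orderOf.mp hRp ⟨v, map_subtype_le _ hv⟩
    rw [← Subgroup.orderOf_coe] at hj
    rcases Nat.eq_zero_or_pos j with rfl | h
    · exact absurd (orderOf_eq_one_iff.mp hj) hv1
    · rw [hj]; exact dvd_pow_self s h.ne'
  haveI : Fact (Nat.Prime 2) := ⟨Nat.prime_two⟩
  obtain ⟨x, hx⟩ := exists_prime_orderOf_dvd_card' 2 h2
  obtain ⟨t, ht⟩ := QuotientGroup.mk'_surjective R x
  have ht1 : t ≠ 1 := fun e => by rw [e, map_one] at ht; rw [← ht, orderOf_one] at hx; omega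
  have ht2 : t * t = 1 := by
    have hmem : t * t ∈ R := by
      rw [← QuotientGroup.eq_one_iff, ← QuotientGroup.mk'_apply, map_mul, ht, ← pow_two, ← hx, pow_orderOf_eq_one]
    obtain ⟨r, j, hr, -, hrj⟩ := (isPrimePow_nat_iff _).mp (hpp t ht1)
    have h2t : 2 ∣ orderOf t := hx ▸ ht ▸ orderOf_map_dvd (QuotientGroup.mk' R) t
    have hr2 : r = 2 := ((Nat.prime_dvd_prime_iff_eq Nat.prime_two hr).mp
      (Nat.prime_two.dvd_of_dvd_pow (hrj.symm ▸ h2t))).symm
    obtain ⟨i, hi⟩ := IsPGroup.iff_orderOf.mp hRp ⟨t * t, hmem⟩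
    rw [← Subgroup.orderOf_coe] at hi
    simp only at hi
    have h3 : orderOf (t * t) ∣ orderOf t := by rw [← pow_two]; exact orderOf_pow_dvd 2
    rw [hi, ← hrj, hr2] at h3
    have h4 : Nat.Coprime (s ^ i) (2 ^ j) :=
      Nat.Coprime.pow _ _ ((Nat.coprime_primes hs.out Nat.prime_two).mpr hs2)
    have := Nat.Coprime.eq_one_of_dvd h4 h3
    rw [this] at hi
    exact orderOf_eq_one_iff.mp hi
  have htinv : t⁻¹ = t := inv_eq_of_mul_eq_one_right ht2
  have hto : orderOf t = 2 := orderOf_eq_prime (by rw [pow_two, ht2]) ht1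
  have hinv : ∀ v ∈ V, t * v * t⁻¹ = v⁻¹ := by
    intro v hv
    have hv' : t * v * t⁻¹ ∈ V := hVn.conj_mem v hv t
    have hw : t * (v * (t * v * t⁻¹)) = v * (t * v * t⁻¹) * t := by
      have e1 : t * (v * (t * v * t⁻¹)) = t * v * t⁻¹ * v * t := by
        rw [htinv]
        calc t * (v * (t * v * t)) = (t * v * t) * (v * t) := by group
          _ = t * v * t * v * t := by group
      rw [e1, hVcomm _ hv' _ hv]
    by_contra hne
    have hw1 : v * (t * v * t⁻¹) ≠ 1 := fun e => hne (inv_eq_of_mul_eq_one_right e).symm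
    exact Cfsg.Agent.S3992.Aux.no_commute hpp Nat.prime_two hs.out (Ne.symm hs2) hto.symm.dvd
      (hsv _ (mul_mem hv hv') hw1) hw
  haveI hCn : (centralizer (V : Set G)).Normal := inferInstance
  have hC : centralizer (V : Set G) ≤ R := by
    refine hmax _ hCn (IsPGroup.to_le (centralizer_pgroup hpp (hsv v₀ hv₀ hv₁)) (centralizer_le ?_))
    simpa using hv₀
  have hxc : x ∈ center (G ⧸ R) := by
    rw [mem_center_iff]
    intro y
    obtain ⟨g, rfl⟩ := QuotientGroup.mk'_surjective R y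
    rw [← ht]
    have hc : t * (g * t * g⁻¹) ∈ centralizer (V : Set G) := by
      intro v hv
      have h1 : g⁻¹ * v * g ∈ V := by simpa using hVn.conj_mem v hv g⁻¹
      have h3 : g * t * g⁻¹ * v * (g * t * g⁻¹)⁻¹ = v⁻¹ := by
        calc g * t * g⁻¹ * v * (g * t * g⁻¹)⁻¹ = g * (t * (g⁻¹ * v * g) * t⁻¹) * g⁻¹ := by group
          _ = v⁻¹ := by rw [hinv _ h1]; group
      have h4 : t * (g * t * g⁻¹) * v * (t * (g * t * g⁻¹))⁻¹ = v := by
        calc t * (g * t * g⁻¹) * v * (t * (g * t * g⁻¹))⁻¹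
            = t * (g * t * g⁻¹ * v * (g * t * g⁻¹)⁻¹) * t⁻¹ := by group
          _ = v := by rw [h3, hinv _ (inv_mem hv), inv_inv]
      exact (mul_inv_eq_iff_eq_mul.mp h4).symm
    have h5 : QuotientGroup.mk' R (t * (g * t * g⁻¹)) = 1 := (QuotientGroup.eq_one_iff _).mpr (hC hc)
    rw [map_mul, map_mul, map_mul, map_inv] at h5
    have h6 := eq_inv_of_mul_eq_one_right h5
    have h7 : (QuotientGroup.mk' R t)⁻¹ = QuotientGroup.mk' R t := by rw [← map_inv, htinv]
    rw [h7] at h6
    calc QuotientGroup.mk' R g * QuotientGroup.mk' R t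
        = QuotientGroup.mk' R g * QuotientGroup.mk' R t * (QuotientGroup.mk' R g)⁻¹ * QuotientGroup.mk' R g := by
          group
      _ = _ := by rw [h6]
  rw [hZ, mem_bot] at hxc
  rw [hxc, orderOf_one] at hx
  omega

/-- A subgroup of order `pq` of the quotient by a normal two-group forces this two-group to be trivial. -/
theorem two_radical_bot (hpp : Epo G) (R : Subgroup G) [R.Normal] (hR2 : IsPGroup 2 R) (K : Subgroup (G ⧸ R))
    {p q : ℕ} (hp : p.Prime) (hq : q.Prime) (hne : p ≠ q) (hp2 : p ≠ 2) (hq2 : q ≠ 2)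
    (hK : Nat.card K = p * q) : R = ⊥ := by
  by_contra hR
  haveI : Nontrivial R := (nontrivial_iff_ne_bot R).mpr hR
  haveI : Fact (Nat.Prime 2) := ⟨Nat.prime_two⟩
  set L := K.comap (QuotientGroup.mk' R) with hL
  have hRL : R ≤ L := fun r hr => by
    rw [hL, mem_comap, QuotientGroup.mk'_apply, (QuotientGroup.eq_one_iff r).mpr hr]; exact one_mem K
  have hidx : (R.subgroupOf L).index = p * q := by
    rw [← hK]
    have hsurj := MonoidHom.subgroupComap_surjective_of_surjective _ K (QuotientGroup.mk'_surjective R)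
    have hker : ((QuotientGroup.mk' R).subgroupComap K).ker = R.subgroupOf L := by
      ext x
      rw [MonoidHom.mem_ker, mem_subgroupOf, ← QuotientGroup.eq_one_iff]
      exact Subtype.ext_iff
    rw [← hker, Subgroup.index_ker, MonoidHom.range_eq_top.mpr hsurj, Subgroup.card_top]
  obtain ⟨i, hi⟩ := IsPGroup.iff_card.mp hR2
  have hcop : Nat.Coprime (Nat.card (R.subgroupOf L)) (R.subgroupOf L).index := by
    rw [Nat.card_congr (subgroupOfEquivOfLe hRL).toEquiv, hi, hidx]
    exact Nat.Coprime.pow_left i (Nat.Coprime.mul_right ((Nat.coprime_primes Nat.prime_two hp).mpr (Ne.symm hp2))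
      ((Nat.coprime_primes Nat.prime_two hq).mpr (Ne.symm hq2)))
  obtain ⟨B, hB⟩ := Subgroup.exists_right_complement'_of_coprime hcop
  set A := B.map L.subtype with hA
  have hAc : Nat.card A = p * q := by
    rw [hA, ← Nat.card_congr (B.equivMapOfInjective L.subtype L.subtype_injective).toEquiv, ← hB.symm.index_eq_card, hidx]
  set V := (center R).map R.subtype with hV
  haveI : V.Normal := inferInstance
  haveI : IsMulCommutative V := ⟨⟨by
    rintro ⟨_, a, ha, rfl⟩ ⟨_, b, -, rfl⟩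
    exact Subtype.ext ((congrArg R.subtype (mem_center_iff.mp ha b)).symm)⟩⟩
  have hV0 : V ≠ ⊥ := by
    haveI := hR2.center_nontrivial
    rw [hV, ne_eq, map_eq_bot_iff_of_injective _ R.subtype_injective]
    exact (nontrivial_iff_ne_bot _).mp inferInstance
  have hcyc := CfsgLib.Frob.isCyclic_of_fpf_pq hV0 (A := A) (by rw [normalizer_eq_top]; exact le_top) ?_ hp hq hAc
  · obtain ⟨c, hc⟩ := isCyclic_iff_exists_orderOf_eq_natCard.mp hcyc
    rw [hAc, ← Subgroup.orderOf_coe] at hc
    exact Cfsg.Agent.S3992.Aux.no_commute hpp hp hq hne (hc ▸ dvd_mul_right p q) (hc ▸ dvd_mul_left q p)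
      (Commute.refl (c : G))
  · intro x hx hx1
    rw [eq_bot_iff]
    rintro v ⟨hv, hvc⟩
    rw [mem_bot]
    by_contra hv1
    obtain ⟨j, hj⟩ := IsPGroup.iff_orderOf.mp hR2 ⟨v, map_subtype_le _ hv⟩
    rw [← Subgroup.orderOf_coe] at hj
    simp only at hj
    obtain ⟨r, hr, hrx⟩ := Nat.exists_prime_and_dvd (show orderOf x ≠ 1 from fun e => hx1 (orderOf_eq_one_iff.mp e))
    have hrpq : r ∣ p * q := hrx.trans (hAc ▸ A.orderOf_dvd_natCard hx)
    have hr2 : r ≠ 2 := by
      rintro rfl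
      rcases (Nat.Prime.dvd_mul hr).mp hrpq with h | h
      · exact hp2 ((Nat.prime_dvd_prime_iff_eq hr hp).mp h).symm
      · exact hq2 ((Nat.prime_dvd_prime_iff_eq hr hq).mp h).symm
    rcases Nat.eq_zero_or_pos j with rfl | hj0
    · exact hv1 (orderOf_eq_one_iff.mp hj)
    · exact Cfsg.Agent.S3992.Aux.no_commute hpp hr Nat.prime_two hr2 hrx (hj ▸ dvd_pow_self 2 hj0.ne')
        (mem_centralizer_singleton_iff.mp hvc).symm

/-- The socle quotient of an insoluble group with prime power element orders. -/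
theorem socle_quotient (hpp : Epo G) (hns : ¬ Group.IsSolvable G) :
    ∃ (R : Subgroup G) (_ : R.Normal) (M : Subgroup (G ⧸ R)) (_ : M.Normal), IsSimpleGroup M ∧ ¬ IsMulCommutative M ∧
      Epo (G ⧸ R) ∧ Epo M ∧ (2 ∣ Nat.card M → IsPGroup 2 R) := by
  set R := CfsgLib.solvableRadical G with hR
  haveI : R.Normal := CfsgLib.solvableRadical_normal
  have hmax : ∀ N : Subgroup G, N.Normal → Group.IsSolvable ↥N → N ≤ R :=
    fun N hN h => @CfsgLib.le_solvableRadical _ _ N hN h
  obtain ⟨⟨s, hs, hRs⟩, ⟨M, hMn, hMsim, hMc, hmin⟩, -⟩ :=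
    Cfsg.Agent.S3992.result hns hpp R CfsgLib.isSolvable_solvableRadical hmax
  refine ⟨R, inferInstance, M, hMn, hMsim, hMc, Cfsg.Agent.S3992.Aux.epo_quotient hpp R,
    Cfsg.Agent.S3992.Aux.epo_subgroup (Cfsg.Agent.S3992.Aux.epo_quotient hpp R) M, fun h2 => ?_⟩
  rcases eq_or_ne s 2 with rfl | hs2
  · exact hRs
  haveI := Fact.mk hs
  have hbot := odd_radical_bot hpp R hs2 hRs
    (fun N hN hp => hmax N hN (Cfsg.Agent.S3992.Aux.solvable_pgroup hp)) (h2.trans (card_subgroup_dvd_card M)) ?_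
  · rw [hbot]; exact IsPGroup.of_bot
  by_contra hZ
  exact hMc ⟨⟨fun a b => Subtype.ext (((mem_center_iff.mp (hmin _ inferInstance hZ a.2)) b).symm)⟩⟩

end CfsgLib.EppoAlmost
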