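import Mathlib
import Cfsg.Prelude.Def_Sz
import Cfsg.Agent.Lib.EppoAlmost.Basic
import Cfsg.Agent.Lib.PSL2Spectrum
import Cfsg.Agent.Lib.Suzuki.Lie
import Cfsg.Agent.Lib.SmallOrders.PSLHalfDegree

/-!
The orders of the simple groups with prime power element orders and what they give for a group having one as socle.
-/

set_option autoImplicit false
set_option linter.unusedSectionVars false
set_option linter.style.haveILetI false

namespace CfsgLib.EppoAlmost

open Subgroup Matrix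

universe u

/-- The list of the simple groups with prime power element orders, as a proposition. -/
def SimpleList : Prop :=
  ∀ (X : Type u) [Group X] [Finite X] [IsSimpleGroup X], ¬ IsMulCommutative X → Epo X →
    Nonempty (X ≃* alternatingGroup (Fin 6)) ∨
    (∃ (F : Type) (_ : Field F) (_ : Fintype F), Fintype.card F ∈ ({4, 7, 8, 17} : Finset ℕ) ∧
      Nonempty (X ≃* Matrix.ProjectiveSpecialLinearGroup (Fin 2) F)) ∨
    (∃ (F : Type) (_ : Field F) (_ : Fintype F), Fintype.card F = 4 ∧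
      Nonempty (X ≃* Matrix.ProjectiveSpecialLinearGroup (Fin 3) F)) ∨
    (∃ (F : Type) (_ : Field F) (_ : Fintype F),
      (Fintype.card F = 8 ∧ Nonempty (X ≃* ↥(Cfsg.Lie.Sz F 4))) ∨
      (Fintype.card F = 32 ∧ Nonempty (X ≃* ↥(Cfsg.Lie.Sz F 8))))

theorem card_psl_two {F : Type*} [Field F] [Fintype F] :
    Nat.gcd 2 (Fintype.card F - 1) * Nat.card (ProjectiveSpecialLinearGroup (Fin 2) F) =
      Fintype.card F * (Fintype.card F ^ 2 - 1) := by
  rw [SLCard.gcd_mul_card_PSL (by norm_num), SLCard.card_SL_two]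

theorem card_psl_three_four {F : Type*} [Field F] [Fintype F] (h : Fintype.card F = 4) :
    Nat.card (ProjectiveSpecialLinearGroup (Fin 3) F) = 20160 := by
  have h1 := SLCard.gcd_mul_card_PSL (F := F) (n := 3) (by norm_num)
  have h2 := SLCard.card_units_mul_card_SL (F := F) (n := 3) (by norm_num)
  rw [Matrix.card_GL_field, Fin.prod_univ_three, h] at h2
  rw [h] at h1
  norm_num at h1 h2
  omega

theorem exists_nine {F : Type*} [Field F] [Fintype F] (h : Fintype.card F = 8 ∨ Fintype.card F = 17) :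
    ∃ x : ProjectiveSpecialLinearGroup (Fin 2) F, orderOf x = 9 := by
  rcases h with h | h
  · haveI := Fact.mk (by norm_num : (2 : ℕ).Prime)
    haveI : CharP F 2 := charP_of_card_eq_prime_pow (p := 2) (f := 3) (by rw [h]; norm_num)
    exact (PSL2Spectrum.psl_orders 2 9).mpr (Or.inr (Or.inl (by rw [h]; norm_num)))
  · haveI := Fact.mk (by norm_num : (17 : ℕ).Prime)
    haveI : CharP F 17 := charP_of_card_eq_prime_pow (p := 17) (f := 1) (by rw [h]; norm_num)
    exact (PSL2Spectrum.psl_orders 17 9).mpr (Or.inr (Or.inl (by rw [h]; norm_num)))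

theorem list_facts (H : SimpleList.{u}) (X : Type u) [Group X] [Finite X] [IsSimpleGroup X]
    (hX : ¬ IsMulCommutative X) (hpp : Epo X) :
    Nat.card X = 60 ∨ Nat.card X = 360 ∨ (Nat.card X = 504 ∧ ∃ x : X, orderOf x = 9) ∨
    (Nat.card X = 2448 ∧ ∃ x : X, orderOf x = 9) ∨
    (Nat.card X = 168 ∧ ∀ (F : Type) [Field F] [Fintype F], Fintype.card F = 7 →
      Nonempty (X ≃* Matrix.ProjectiveSpecialLinearGroup (Fin 2) F)) ∨
    (Nat.card X = 20160 ∧ ∃ (F : Type) (_ : Field F) (_ : Fintype F), Fintype.card F = 4 ∧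
      Nonempty (X ≃* Matrix.ProjectiveSpecialLinearGroup (Fin 3) F)) ∨
    (Nat.card X = 29120 ∧ ∃ (F : Type) (_ : Field F) (_ : Fintype F), Fintype.card F = 8 ∧
      Nonempty (X ≃* ↥(Cfsg.Lie.Sz F 4))) ∨
    (Nat.card X = 32537600 ∧ ∃ (F : Type) (_ : Field F) (_ : Fintype F), Fintype.card F = 32 ∧
      Nonempty (X ≃* ↥(Cfsg.Lie.Sz F 8))) := by
  rcases H X hX hpp with ⟨⟨e⟩⟩ | ⟨F, _, _, hF, ⟨e⟩⟩ | ⟨F, _, _, hF, ⟨e⟩⟩ | ⟨F, _, _, ⟨hF, ⟨e⟩⟩ | ⟨hF, ⟨e⟩⟩⟩
  · refine Or.inr (Or.inl ?_)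
    rw [Nat.card_congr e.toEquiv, nat_card_alternatingGroup, Nat.card_fin]
    norm_num [Nat.factorial]
  · have hc := card_psl_two (F := F)
    rw [← Nat.card_congr e.toEquiv] at hc
    simp only [Finset.mem_insert, Finset.mem_singleton] at hF
    rcases hF with hF | hF | hF | hF <;> rw [hF] at hc <;> norm_num at hc
    · exact Or.inl (by omega)
    · refine Or.inr (Or.inr (Or.inr (Or.inr (Or.inl ⟨by omega, fun K _ _ hK => ?_⟩))))
      obtain ⟨e'⟩ := CfsgLib.SmallOrders.psl_congr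
        (FiniteField.ringEquivOfCardEq (K := F) (K' := K) (hF.trans hK.symm))
      exact ⟨e.trans e'⟩
    · obtain ⟨x, hx⟩ := exists_nine (F := F) (Or.inl hF)
      exact Or.inr (Or.inr (Or.inl ⟨by omega, e.symm x, by rw [MulEquiv.orderOf_eq, hx]⟩))
    · obtain ⟨x, hx⟩ := exists_nine (F := F) (Or.inr hF)
      exact Or.inr (Or.inr (Or.inr (Or.inl ⟨by omega, e.symm x, by rw [MulEquiv.orderOf_eq, hx]⟩)))
  · refine Or.inr (Or.inr (Or.inr (Or.inr (Or.inr (Or.inl ⟨?_, F, inferInstance, inferInstance, hF, ⟨e⟩⟩)))))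
    rw [Nat.card_congr e.toEquiv, card_psl_three_four hF]
  · refine Or.inr (Or.inr (Or.inr (Or.inr (Or.inr (Or.inr (Or.inl ⟨?_, F, inferInstance, inferInstance, hF, ⟨e⟩⟩))))))
    have hF' : Fintype.card F = 2 ^ (2 * 1 + 1) := by rw [hF]; norm_num
    rw [Nat.card_congr (e.trans (Suzuki.lieEquiv hF' le_rfl).symm).toEquiv, Suzuki.card_Sz hF' le_rfl]
    norm_num
  · refine Or.inr (Or.inr (Or.inr (Or.inr (Or.inr (Or.inr (Or.inr ⟨?_, F, inferInstance, inferInstance, hF, ⟨e⟩⟩))))))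
    have hF' : Fintype.card F = 2 ^ (2 * 2 + 1) := by rw [hF]; norm_num
    rw [Nat.card_congr (e.trans (Suzuki.lieEquiv hF' (by norm_num)).symm).toEquiv, Suzuki.card_Sz hF' (by norm_num)]
    norm_num

end CfsgLib.EppoAlmost
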