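import Cfsg.Agent.Lib.EppoAlmost.List

/-!
Groups with prime power element orders have at most four prime divisors, and those with four are determined,
given the list of simple groups with prime power element orders.
-/

set_option autoImplicit false
set_option linter.unusedSectionVars false
set_option linter.style.haveILetI false

namespace CfsgLib.EppoAlmost

open Subgroup Matrix

universe u

variable {G : Type u} [Group G] [Finite G]

theorem primes_subset (R : Subgroup G) [R.Normal] (hR : IsPGroup 2 R) (M : Subgroup (G ⧸ R)) (S : Finset ℕ)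
    (h2 : 2 ∈ S) (hM : ∀ r : ℕ, r.Prime → r ∣ Nat.card M → r ∈ S) (hI : ∀ r : ℕ, r.Prime → r ∣ M.index → r ∈ S) :
    (Nat.card G).primeFactors ⊆ S := by
  intro r hr
  obtain ⟨hrp, hrd, -⟩ := Nat.mem_primeFactors.mp hr
  rw [Subgroup.card_eq_card_quotient_mul_card_subgroup R, ← M.card_mul_index] at hrd
  rcases hrp.dvd_mul.mp hrd with h | h
  · rcases hrp.dvd_mul.mp h with h | h
    · exact hM r hrp h
    · exact hI r hrp h
  · haveI : Fact (Nat.Prime 2) := ⟨Nat.prime_two⟩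
    obtain ⟨j, hj⟩ := IsPGroup.iff_card.mp hR
    rw [hj] at h
    rw [(Nat.prime_dvd_prime_iff_eq hrp Nat.prime_two).mp (hrp.dvd_of_dvd_pow h)]
    exact h2

theorem mem_of_dvd_pow_mul {r n : ℕ} (hr : r.Prime) {p a : ℕ} (hp : p.Prime) {t : Finset ℕ} (hn : n.primeFactors ⊆ t)
    (hn0 : n ≠ 0) (h : r ∣ p ^ a * n) : r ∈ insert p t := by
  rcases hr.dvd_mul.mp h with h | h
  · rw [(Nat.prime_dvd_prime_iff_eq hr hp).mp (hr.dvd_of_dvd_pow h)]; exact Finset.mem_insert_self _ _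
  · exact Finset.mem_insert_of_mem (hn (Nat.mem_primeFactors.mpr ⟨hr, h, hn0⟩))

theorem small_socle (R : Subgroup G) [R.Normal] (M : Subgroup (G ⧸ R)) [M.Normal] (hppQ : Epo (G ⧸ R))
    (hR : IsPGroup 2 R) (p : ℕ) [hp : Fact p.Prime] (hpd : p ∣ Nat.card M) (hp2 : ¬ p ^ 2 ∣ Nat.card M)
    (S : Finset ℕ) (h2 : 2 ∈ S) (hpS : p ∈ S) (hS : S.card ≤ 3) (hMS : (Nat.card M).primeFactors ⊆ S)
    (hpS' : (p - 1).primeFactors ⊆ S) : (Nat.card G).primeFactors.card ≤ 3 := by
  obtain ⟨a, b, k, -, -, -, -, -, hbig, -⟩ := normaliser_dvd (p := p) hppQ M hpd hp2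
  refine (Finset.card_le_card (primes_subset R hR M S h2
    (fun r hr h => hMS (Nat.mem_primeFactors.mpr ⟨hr, h, Nat.card_pos.ne'⟩)) fun r hr h => ?_)).trans hS
  have := mem_of_dvd_pow_mul hr hp.out hpS' (by have := hp.out.two_le; omega) (h.trans hbig)
  rwa [Finset.insert_eq_of_mem hpS] at this

theorem pf {n : ℕ} (_ : n ≠ 0) (S : Finset ℕ) (l : List ℕ) (hl : ∀ x ∈ l, x.Prime ∧ x ∈ S) (hn : n ∣ l.prod) :
    n.primeFactors ⊆ S := by
  intro r hr
  obtain ⟨hrp, hrd, -⟩ := Nat.mem_primeFactors.mp hr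
  obtain ⟨x, hx, hrx⟩ := (Prime.dvd_prod_iff hrp.prime).mp (hrd.trans hn)
  rw [(Nat.prime_dvd_prime_iff_eq hrp (hl x hx).1).mp hrx]
  exact (hl x hx).2

theorem eq_of_pp {b q : ℕ} (hb : b = 1 ∨ IsPrimePow b) {r : ℕ} (hr : r.Prime) (hrb : r ∣ b) (hq : b ∣ q) {e : ℕ}
    (he : ¬ r ^ (e + 1) ∣ q) : b ∣ r ^ e := by
  rcases hb with rfl | hb
  · exact one_dvd _
  obtain ⟨s, j, hs, -, hsj⟩ := (isPrimePow_nat_iff _).mp hb
  subst hsj
  obtain rfl := (Nat.prime_dvd_prime_iff_eq hr hs).mp (hr.dvd_of_dvd_pow hrb)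
  refine Nat.pow_dvd_pow _ ?_
  by_contra hc
  exact he ((Nat.pow_dvd_pow _ (by omega)).trans hq)

theorem four_cases (H : SimpleList.{u}) (hpp : Epo G) :
    (Nat.card G).primeFactors.card ≤ 3 ∨ ((Nat.card G).primeFactors.card ≤ 4 ∧
      ((∃ (F : Type) (_ : Field F) (_ : Fintype F), Fintype.card F = 4 ∧
        Nonempty (G ≃* Matrix.ProjectiveSpecialLinearGroup (Fin 3) F)) ∨
      (∃ (N : Subgroup G) (_ : N.Normal), IsPGroup 2 ↥N ∧
        ∃ (F : Type) (_ : Field F) (_ : Fintype F),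
          (Fintype.card F = 8 ∧ Nonempty (G ⧸ N ≃* ↥(Cfsg.Lie.Sz F 4))) ∨
          (Fintype.card F = 32 ∧ Nonempty (G ⧸ N ≃* ↥(Cfsg.Lie.Sz F 8)))))) := by
  classical
  by_cases hsol : Group.IsSolvable G
  · exact Or.inl ((Cfsg.Agent.S3992.Aux.two_primes hpp).trans (by norm_num))
  obtain ⟨R, _, M, _, hMs, hMc, hppQ, hppM, hR⟩ := socle_quotient hpp hsol
  haveI : Fact (Nat.Prime 5) := ⟨by norm_num⟩
  haveI : Fact (Nat.Prime 7) := ⟨by norm_num⟩
  haveI : Fact (Nat.Prime 17) := ⟨by norm_num⟩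
  haveI : Fact (Nat.Prime 31) := ⟨by norm_num⟩
  haveI : Fact (Nat.Prime 41) := ⟨by norm_num⟩
  have iso : M.index = 1 → ∀ {X : Type} [Group X], Nonempty (M ≃* X) → Nonempty (G ⧸ R ≃* X) :=
    fun hi X _ ⟨e⟩ => ⟨(Subgroup.topEquiv.symm.trans (MulEquiv.subgroupCongr (index_eq_one.mp hi).symm)).trans e⟩
  have count : M.index = 1 → IsPGroup 2 R → ∀ S : Finset ℕ, 2 ∈ S → S.card ≤ 4 → (Nat.card M).primeFactors ⊆ S →
      (Nat.card G).primeFactors.card ≤ 4 := fun hi hR' S h2 hS hMS =>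
    (Finset.card_le_card (primes_subset R hR' M S h2
      (fun r hr h => hMS (Nat.mem_primeFactors.mpr ⟨hr, h, Nat.card_pos.ne'⟩))
      fun r hr h => absurd (Nat.dvd_one.mp (hi ▸ h)) hr.ne_one)).trans hS
  rcases list_facts H M hMc hppM with h | h | ⟨h, -⟩ | ⟨h, -⟩ | ⟨h, -⟩ | ⟨h, F, _, _, hF, hiso⟩ |
    ⟨h, F, _, _, hF, hiso⟩ | ⟨h, F, _, _, hF, hiso⟩
  · exact Or.inl (small_socle R M hppQ (hR (by rw [h]; norm_num)) 5 (by rw [h]; norm_num) (by rw [h]; norm_num)
      {2, 3, 5} (by decide) (by decide) (by decide)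
      (pf (Nat.card_pos.ne') _ [2, 2, 3, 5] (by norm_num) (by rw [h]; norm_num))
      (pf (by norm_num) _ [2, 2] (by norm_num) (by norm_num)))
  · exact Or.inl (small_socle R M hppQ (hR (by rw [h]; norm_num)) 5 (by rw [h]; norm_num) (by rw [h]; norm_num)
      {2, 3, 5} (by decide) (by decide) (by decide)
      (pf (Nat.card_pos.ne') _ [2, 2, 2, 3, 3, 5] (by norm_num) (by rw [h]; norm_num))
      (pf (by norm_num) _ [2, 2] (by norm_num) (by norm_num)))
  · exact Or.inl (small_socle R M hppQ (hR (by rw [h]; norm_num)) 7 (by rw [h]; norm_num) (by rw [h]; norm_num)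
      {2, 3, 7} (by decide) (by decide) (by decide)
      (pf (Nat.card_pos.ne') _ [2, 2, 2, 3, 3, 7] (by norm_num) (by rw [h]; norm_num))
      (pf (by norm_num) _ [2, 3] (by norm_num) (by norm_num)))
  · exact Or.inl (small_socle R M hppQ (hR (by rw [h]; norm_num)) 17 (by rw [h]; norm_num) (by rw [h]; norm_num)
      {2, 3, 17} (by decide) (by decide) (by decide)
      (pf (Nat.card_pos.ne') _ [2, 2, 2, 2, 3, 3, 17] (by norm_num) (by rw [h]; norm_num))
      (pf (by norm_num) _ [2, 2, 2, 2] (by norm_num) (by norm_num)))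
  · exact Or.inl (small_socle R M hppQ (hR (by rw [h]; norm_num)) 7 (by rw [h]; norm_num) (by rw [h]; norm_num)
      {2, 3, 7} (by decide) (by decide) (by decide)
      (pf (Nat.card_pos.ne') _ [2, 2, 2, 3, 7] (by norm_num) (by rw [h]; norm_num))
      (pf (by norm_num) _ [2, 3] (by norm_num) (by norm_num)))
  · obtain ⟨a, b, k, hkb, hb, hbp, -, hmod, -, hsmall, K, -, hK⟩ :=
      normaliser_dvd (p := 7) hppQ M (by rw [h]; norm_num) (by rw [h]; norm_num)
    obtain ⟨a', _, _, -, -, -, -, -, hbig, -⟩ :=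
      normaliser_dvd (p := 5) hppQ M (by rw [h]; norm_num) (by rw [h]; norm_num)
    rw [h] at hmod
    have hk : k = 3 := by
      have hk6 : k ∈ Nat.divisors 6 := Nat.mem_divisors.mpr ⟨hkb.trans hb, by norm_num⟩
      rw [show Nat.divisors 6 = {1, 2, 3, 6} by decide] at hk6
      simp only [Finset.mem_insert, Finset.mem_singleton] at hk6
      rcases hk6 with rfl | rfl | rfl | rfl <;> first | rfl | norm_num at hmod
    subst hk
    have hb3 : b = 3 := Nat.dvd_antisymm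
      (by simpa using eq_of_pp hbp Nat.prime_three hkb hb (e := 1) (by norm_num)) hkb
    have hi : M.index = 1 := Nat.eq_one_of_dvd_coprimes (Nat.Coprime.pow_left _
      (Nat.Coprime.mul_right (Nat.Coprime.pow_right _ (by norm_num)) (by norm_num))) (hsmall hb3.symm) hbig
    have hR2 : IsPGroup 2 R := hR (by rw [h]; norm_num)
    have hR1 : R = ⊥ := two_radical_bot hpp R hR2 K (p := 7) (q := 3)
      (by norm_num) (by norm_num) (by norm_num) (by norm_num) (by norm_num) hK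
    refine Or.inr ⟨count hi hR2 {2, 3, 5, 7} (by decide) (by decide)
      (pf (Nat.card_pos.ne') _ [2, 2, 2, 2, 2, 2, 3, 3, 5, 7] (by norm_num) (by rw [h]; norm_num)),
      Or.inl ⟨F, inferInstance, inferInstance, hF, ?_⟩⟩
    obtain ⟨e⟩ := iso hi hiso
    subst hR1
    exact ⟨QuotientGroup.quotientBot.symm.trans e⟩
  · obtain ⟨a, b, k, hkb, hb, hbp, -, hmod, -, hsmall, -⟩ :=
      normaliser_dvd (p := 7) hppQ M (by rw [h]; norm_num) (by rw [h]; norm_num)
    obtain ⟨a', _, _, -, -, -, -, -, hbig, -⟩ :=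
      normaliser_dvd (p := 5) hppQ M (by rw [h]; norm_num) (by rw [h]; norm_num)
    rw [h] at hmod
    have hk : k = 2 := by
      have hk6 : k ∈ Nat.divisors 6 := Nat.mem_divisors.mpr ⟨hkb.trans hb, by norm_num⟩
      rw [show Nat.divisors 6 = {1, 2, 3, 6} by decide] at hk6
      simp only [Finset.mem_insert, Finset.mem_singleton] at hk6
      rcases hk6 with rfl | rfl | rfl | rfl <;> first | rfl | norm_num at hmod
    subst hk
    have hb2 : b = 2 := Nat.dvd_antisymm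
      (by simpa using eq_of_pp hbp Nat.prime_two hkb hb (e := 1) (by norm_num)) hkb
    have hi : M.index = 1 := Nat.eq_one_of_dvd_coprimes (Nat.Coprime.pow_left _
      (Nat.Coprime.mul_right (Nat.Coprime.pow_right _ (by norm_num)) (by norm_num))) (hsmall hb2.symm) hbig
    have hR2 : IsPGroup 2 R := hR (by rw [h]; norm_num)
    exact Or.inr ⟨count hi hR2 {2, 5, 7, 13} (by decide) (by decide)
      (pf (Nat.card_pos.ne') _ [2, 2, 2, 2, 2, 2, 5, 7, 13] (by norm_num) (by rw [h]; norm_num)),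
      Or.inr ⟨R, inferInstance, hR2, F, inferInstance, inferInstance, Or.inl ⟨hF, iso hi hiso⟩⟩⟩
  · obtain ⟨a, b, k, hkb, hb, hbp, -, hmod, -, hsmall, -⟩ :=
      normaliser_dvd (p := 31) hppQ M (by rw [h]; norm_num) (by rw [h]; norm_num)
    obtain ⟨a', _, _, -, -, -, -, -, hbig, -⟩ :=
      normaliser_dvd (p := 41) hppQ M (by rw [h]; norm_num) (by rw [h]; norm_num)
    rw [h] at hmod
    have hk : k = 2 := by
      have hk30 : k ∈ Nat.divisors 30 := Nat.mem_divisors.mpr ⟨hkb.trans hb, by norm_num⟩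
      rw [show Nat.divisors 30 = {1, 2, 3, 5, 6, 10, 15, 30} by decide] at hk30
      simp only [Finset.mem_insert, Finset.mem_singleton] at hk30
      rcases hk30 with rfl | rfl | rfl | rfl | rfl | rfl | rfl | rfl
      all_goals first
        | rfl
        | (norm_num at hmod)
    subst hk
    have hb2 : b = 2 := Nat.dvd_antisymm
      (by simpa using eq_of_pp hbp Nat.prime_two hkb hb (e := 1) (by norm_num)) hkb
    have hi : M.index = 1 := Nat.eq_one_of_dvd_coprimes (Nat.Coprime.pow_left _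
      (Nat.Coprime.mul_right (Nat.Coprime.pow_right _ (by norm_num)) (by norm_num))) (hsmall hb2.symm) hbig
    have hR2 : IsPGroup 2 R := hR (by rw [h]; norm_num)
    exact Or.inr ⟨count hi hR2 {2, 5, 31, 41} (by decide) (by decide)
      (pf (Nat.card_pos.ne') _ [2, 2, 2, 2, 2, 2, 2, 2, 2, 2, 5, 5, 31, 41] (by norm_num) (by rw [h]; norm_num)),
      Or.inr ⟨R, inferInstance, hR2, F, inferInstance, inferInstance, Or.inr ⟨hF, iso hi hiso⟩⟩⟩

theorem four_primes (H : SimpleList.{u}) (h : Epo G) :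
    (Nat.card G).primeFactors.card ≤ 4 ∧
    ((Nat.card G).primeFactors.card = 4 →
      (∃ (F : Type) (_ : Field F) (_ : Fintype F), Fintype.card F = 4 ∧
        Nonempty (G ≃* Matrix.ProjectiveSpecialLinearGroup (Fin 3) F)) ∨
      (∃ (N : Subgroup G) (_ : N.Normal), IsPGroup 2 ↥N ∧
        ∃ (F : Type) (_ : Field F) (_ : Fintype F),
          (Fintype.card F = 8 ∧ Nonempty (G ⧸ N ≃* ↥(Cfsg.Lie.Sz F 4))) ∨
          (Fintype.card F = 32 ∧ Nonempty (G ⧸ N ≃* ↥(Cfsg.Lie.Sz F 8))))) := by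
  rcases four_cases H h with h' | ⟨h1, h2⟩
  · exact ⟨by omega, fun e => absurd e (by omega)⟩
  · exact ⟨h1, fun _ => h2⟩

end CfsgLib.EppoAlmost
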