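import Cfsg.Agent.Lib.EppoAlmost.List

/-!
The group of order 168 is recognised by its element orders, given the list of simple groups with prime power
element orders.
-/

set_option autoImplicit false
set_option linter.unusedSectionVars false
set_option linter.style.haveILetI false

namespace CfsgLib.EppoAlmost

open Subgroup Matrix

universe u

variable {G : Type u} [Group G] [Finite G]

theorem index_one_168 (hpp : Epo G) (M : Subgroup G) [M.Normal] (hM : Nat.card M = 168) :
    M.index = 1 ∧ ∃ K : Subgroup G, Nat.card K = 7 * 3 := by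
  haveI : Fact (Nat.Prime 7) := ⟨by norm_num⟩
  haveI : Fact (Nat.Prime 3) := ⟨by norm_num⟩
  obtain ⟨a, b, k, hkb, hb, hbp, -, hmod, -, hsmall, K, -, hK⟩ :=
    normaliser_dvd (p := 7) hpp M (by rw [hM]; norm_num) (by rw [hM]; norm_num)
  obtain ⟨a', b', k', -, -, -, -, -, hbig, -⟩ :=
    normaliser_dvd (p := 3) hpp M (by rw [hM]; norm_num) (by rw [hM]; norm_num)
  rw [hM] at hmod
  have hb6 : b ∈ Nat.divisors 6 := Nat.mem_divisors.mpr ⟨hb, by norm_num⟩
  have hk6 : k ∈ Nat.divisors 6 := Nat.mem_divisors.mpr ⟨hkb.trans hb, by norm_num⟩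
  have hk : k = 3 := by
    rw [show Nat.divisors 6 = {1, 2, 3, 6} by decide] at hk6
    simp only [Finset.mem_insert, Finset.mem_singleton] at hk6
    rcases hk6 with rfl | rfl | rfl | rfl <;> first | rfl | norm_num at hmod
  subst hk
  have hbv : b = 3 := by
    rw [show Nat.divisors 6 = {1, 2, 3, 6} by decide] at hb6
    simp only [Finset.mem_insert, Finset.mem_singleton] at hb6
    rcases hb6 with rfl | rfl | rfl | rfl
    · norm_num at hkb
    · norm_num at hkb
    · rfl
    · exfalso
      rcases hbp with h | h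
      · omega
      · rw [isPrimePow_iff_unique_prime_dvd] at h
        have := h.unique ⟨Nat.prime_two, by norm_num⟩ ⟨Nat.prime_three, by norm_num⟩
        omega
  refine ⟨Nat.eq_one_of_dvd_coprimes ?_ (hsmall hbv.symm) hbig, K, hK⟩
  exact Nat.Coprime.pow_left _ (Nat.Coprime.mul_right (Nat.Coprime.pow_right _ (by norm_num)) (by norm_num))

theorem seven_of_orders (H : SimpleList.{u}) {F : Type*} [Field F] [Fintype F] (hF : Fintype.card F = 7)
    (h3 : 3 ≤ (Nat.card G).primeFactors.card)
    (hord : ∀ g : G, g ≠ 1 → (∃ k : ℕ, orderOf g = 2 ^ k) ∨ ((orderOf g).Prime ∧ orderOf g ≠ 5)) :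
    Nonempty (G ≃* Matrix.ProjectiveSpecialLinearGroup (Fin 2) F) := by
  classical
  have hpp : Epo G := by
    intro g hg
    rcases hord g hg with ⟨k, hk⟩ | ⟨hp, -⟩
    · rcases Nat.eq_zero_or_pos k with rfl | hk0
      · exact absurd (orderOf_eq_one_iff.mp hk) hg
      · exact (isPrimePow_nat_iff _).mpr ⟨2, k, Nat.prime_two, hk0, hk.symm⟩
    · exact hp.isPrimePow
  have hns : ¬ Group.IsSolvable G := fun h => by
    have := Cfsg.Agent.S3992.Aux.two_primes hpp
    omega
  obtain ⟨R, _, M, _, hMs, hMc, hppQ, hppM, hR⟩ := socle_quotient hpp hns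
  have h5 : ¬ 5 ∣ Nat.card M := by
    intro h
    haveI : Fact (Nat.Prime 5) := ⟨by norm_num⟩
    obtain ⟨g, hg⟩ := exists_prime_orderOf_dvd_card' (G := G) 5
      (h.trans ((card_subgroup_dvd_card M).trans (card_quotient_dvd_card R)))
    rcases hord g (fun e => by rw [e, orderOf_one] at hg; omega) with ⟨k, hk⟩ | ⟨-, h5⟩
    · have := Nat.Prime.dvd_of_dvd_pow (show Nat.Prime 5 by norm_num) (show 5 ∣ 2 ^ k by rw [← hk, hg])
      omega
    · exact h5 hg
  have h9 : ∀ x : M, orderOf x ≠ 9 := by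
    intro x hx
    obtain ⟨g, hg⟩ := QuotientGroup.mk'_surjective R (x : G ⧸ R)
    have h : 9 ∣ orderOf g := by
      have := orderOf_map_dvd (QuotientGroup.mk' R) g
      rwa [hg, Subgroup.orderOf_coe, hx] at this
    rcases hord g (fun e => by rw [e, orderOf_one] at h; omega) with ⟨k, hk⟩ | ⟨hp, -⟩
    · have := Nat.Prime.dvd_of_dvd_pow Nat.prime_three (show 3 ∣ 2 ^ k by rw [← hk]; exact dvd_trans (by norm_num) h)
      omega
    · rcases (Nat.dvd_prime hp).mp h with h' | h' <;> [omega; (rw [← h'] at hp; norm_num at hp)]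
  obtain ⟨h168, hiso⟩ : Nat.card M = 168 ∧ ∀ (K : Type) [Field K] [Fintype K], Fintype.card K = 7 →
      Nonempty (M ≃* Matrix.ProjectiveSpecialLinearGroup (Fin 2) K) := by
    rcases list_facts H M hMc hppM with h | h | ⟨-, x, hx⟩ | ⟨-, x, hx⟩ | h | ⟨h, -⟩ | ⟨h, -⟩ | ⟨h, -⟩
    · exact absurd (by rw [h]; norm_num) h5
    · exact absurd (by rw [h]; norm_num) h5
    · exact absurd hx (h9 x)
    · exact absurd hx (h9 x)
    · exact h
    · exact absurd (by rw [h]; norm_num) h5
    · exact absurd (by rw [h]; norm_num) h5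
    · exact absurd (by rw [h]; norm_num) h5
  obtain ⟨hidx, K, hK⟩ := index_one_168 hppQ M h168
  have hR1 : R = ⊥ := two_radical_bot hpp R (hR (by rw [h168]; norm_num)) K (p := 7) (q := 3)
    (by norm_num) (by norm_num) (by norm_num) (by norm_num) (by norm_num) hK
  subst hR1
  haveI : Fact (Nat.Prime 7) := ⟨by norm_num⟩
  obtain ⟨e₁⟩ := hiso (ZMod 7) (ZMod.card 7)
  have e₂ : G ≃* M := QuotientGroup.quotientBot.symm.trans
    (Subgroup.topEquiv.symm.trans (MulEquiv.subgroupCongr (index_eq_one.mp hidx).symm))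
  let f : ZMod 7 ≃+* F := FiniteField.ringEquivOfCardEq (by rw [ZMod.card, hF])
  exact ⟨(e₂.trans e₁).trans (Classical.choice (CfsgLib.SmallOrders.psl_congr f))⟩

end CfsgLib.EppoAlmost
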